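import Groth.Agent.Lib.RegSheaf.PullTwist
import Groth.Agent.Lib.BCCoh.Bridge
import Groth.Agent.Lib.BCCoh.FlatHomology
import Groth.Agent.Lib.LocFreeHom.Lift
import Groth.Agent.Lib.RatSing29.GGH1

/-!
# Cohomology of negative twists of quasi-coherent modules pulled back from the base
-/

universe u

set_option backward.isDefEq.respectTransparency false
set_option linter.style.haveILetI false
set_option maxHeartbeats 1000000

open AlgebraicGeometry CategoryTheory CategoryTheory.Limits TopologicalSpace Opposite TensorProduct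

noncomputable section

namespace GrothLib.PullTwist20

variable (n : ℕ) (R : Type u) [CommRing R]

theorem free_homogeneousSubmodule (k : ℕ) :
    Module.Free R (MvPolynomial.homogeneousSubmodule (Fin (n + 1)) R k) := by
  rw [MvPolynomial.homogeneousSubmodule_eq_finsupp_supported]
  exact Module.Free.of_equiv (AddMonoidAlgebra.supportedEquivFinsupp _).symm

theorem flat_homology_K (d : ℤ) (p : ℕ) : Module.Flat R ((ProjCohom.K n R d).homology p) := by
  by_cases h : p = n ∧ d ≤ -((n : ℤ) + 1)
  · obtain ⟨k, hk⟩ : ∃ k : ℕ, d = -((n : ℤ) + 1 + k) := ⟨(-d - ((n : ℤ) + 1)).toNat, by omega⟩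
    obtain ⟨rfl, -⟩ := h
    subst hk
    obtain ⟨e⟩ := ProjCohom.nonempty_homology_top p R k
    haveI := free_homogeneousSubmodule p R k
    exact Module.Flat.of_linearEquiv e
  · by_cases h₀ : p = 0 ∧ 0 ≤ d
    · obtain ⟨rfl, hd⟩ := h₀
      lift d to ℕ using hd
      obtain ⟨e⟩ := ProjCohom.nonempty_homology_zero n R d
      haveI := free_homogeneousSubmodule n R d
      exact Module.Flat.of_linearEquiv e
    · haveI : Subsingleton ((ProjCohom.K n R d).homology p) := by
        rcases p with _ | p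
        · exact ProjCohom.subsingleton_homology (ProjCohom.exactAt_zero (by omega) (by omega))
        · exact ProjCohom.subsingleton_homology (ProjCohom.exactAt_succ (by omega))
      infer_instance

variable [IsNoetherianRing R]

/-- For `d < 0` the cohomology of `π^*M ⊗ O(d)` lives in degree `n`. -/
theorem subsingleton_HH_TF {d : ℤ} (hd : d < 0) {q : ℕ} (hq : q ≠ n) (M : ModuleCat.{u} R) :
    Subsingleton (Coh.HH (CohB1.ProjSpace n R)
      ((BCCoh.TF (CohB1.ProjSpace.toSpec n R) (Twist.twistProjSpace n R d)).obj M) q) := by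
  let f := CohB1.ProjSpace.toSpec n R
  let F := Twist.twistProjSpace n R d
  haveI := Chow.isProper_toSpec n R
  haveI := LocallyOfFiniteType.isLocallyNoetherian (CohB1.ProjSpace.toSpec n R)
  haveI : Smooth (CohB1.ProjSpace.toSpec n R) := CurveMult.smooth_toSpec n R
  have hlf := Euler.isFinLocFree_of_isInvertible (ProjPic26.isInvertible_twistProjSpace n R d)
  have hF : Coh.IsCoh F := Euler.isCoh_of_isFinLocFree hlf
  haveI : F.IsQuasicoherent := hF.1
  obtain ⟨m⟩ := BCCoh.nonempty_model f F hF (LocFreeHom.isFlatOver_of_isFinLocFree f hlf)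
  haveI := m.flatL
  have high : ∀ (N : ModuleCat.{u} R) (i : ℤ), m.bound ≤ i → IsZero (CohIII.T m.L i N) :=
    fun N i hi => (m.high N i hi).of_iso ((m.toCech i).app N)
  haveI := m.qis
  -- the homology of the model is that of the explicit complex
  have hP : ∀ p : ℕ, Nonempty (m.L.homology (p : ℤ) ≃ₗ[R] (ProjCohom.K n R d).homology p) := fun p => by
    obtain ⟨e, he, -⟩ := BCCoh.exists_linearEquiv f m.U m.cover m.aff p
    obtain ⟨e'⟩ := ProjCohom.exists_hh_equiv (n := n) (R := R) d p
    letI := BCCoh.modHH f F p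
    exact ⟨((asIso (HomologicalComplex.homologyMap m.u (p : ℤ))).toLinearEquiv ≪≫ₗ
      ((BCCoh.cx f m.U F).extendHomologyIso ComplexShape.embeddingUpNat
        (show ComplexShape.embeddingUpNat.f p = (p : ℤ) from rfl)).toLinearEquiv ≪≫ₗ
      ((e F hF.1).toLinearEquiv (he F hF.1)).symm).trans e'⟩
  have hH : ∀ i : ℤ, Module.Flat R (m.L.homology i) := fun i => by
    by_cases hi : 0 ≤ i
    · obtain ⟨p, rfl⟩ := Int.eq_ofNat_of_zero_le hi
      obtain ⟨e⟩ := hP p
      haveI := flat_homology_K n R d p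
      exact Module.Flat.of_linearEquiv e
    · haveI : Subsingleton (m.L.homology i) := by
        exact @Equiv.subsingleton _ _ (FlatCx.TUnitIso m.L i).toLinearEquiv.symm.toEquiv
          (ModuleCat.subsingleton_of_isZero (m.isZero_T_neg (by omega : i < 0) (ModuleCat.of R R)))
      infer_instance
  haveI : Subsingleton (m.L.homology (q : ℤ)) := by
    obtain ⟨e⟩ := hP q
    haveI : Subsingleton ((ProjCohom.K n R d).homology q) := by
      rcases q with _ | p
      · exact ProjCohom.subsingleton_homology (ProjCohom.exactAt_zero (by omega) hd)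
      · exact ProjCohom.subsingleton_homology (ProjCohom.exactAt_succ (by omega))
    exact e.toEquiv.subsingleton
  obtain ⟨t⟩ := BCCoh.nonempty_T_equiv_tensor m.L m.bound high hH (q : ℤ) M
  haveI : Subsingleton (CohIII.T m.L (q : ℤ) M) := t.toEquiv.subsingleton
  obtain ⟨e, -, -⟩ := m.exists_equiv q
  exact (e M).symm.toEquiv.subsingleton

omit [IsNoetherianRing R] in
theorem exists_tilde_iso {A : CommRingCat.{u}} (G : (Spec A).Modules) [G.IsQuasicoherent] :
    ∃ M : ModuleCat.{u} A, Nonempty (tilde (R := A) M ≅ G) := by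
  haveI := Scheme.Modules.isIso_fromTildeΓ_of_isQuasicoherent G
  exact ⟨_, ⟨asIso G.fromTildeΓ⟩⟩

/-- The same for a quasi-coherent module on the base. -/
theorem subsingleton_HH_twPull {d : ℤ} (hd : d < 0) {q : ℕ} (hq : q ≠ n)
    (G : (Spec (CommRingCat.of R)).Modules) [G.IsQuasicoherent] :
    Subsingleton (Coh.HH (CohB1.ProjSpace n R) (RegSheaf.twPull n R d G) q) := by
  obtain ⟨M, ⟨eG⟩⟩ := exists_tilde_iso (A := CommRingCat.of R) G
  let f := CohB1.ProjSpace.toSpec n R
  let F := Twist.twistProjSpace n R d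
  let P := (Scheme.Modules.pullback f).obj (tilde (R := CommRingCat.of R) M)
  let e : (BCCoh.TF f F).obj M ≅ RegSheaf.twPull n R d G :=
    (Ample.LineData.tensorModMapIso ((Scheme.Modules.pullback f).mapIso eG) (Iso.refl F) :
      CohB1.tensorMod P F ≅ CohB1.tensorMod ((Scheme.Modules.pullback f).obj G) F) ≪≫
    GrTilde.tensorModComm ((Scheme.Modules.pullback f).obj G) F
  exact CMReg.subsingleton_of_iso e (subsingleton_HH_TF n R hd hq M)

end GrothLib.PullTwist20

namespace GrothLib.PullTwist20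

open RegSheaf (Van twPull)

variable {n : ℕ} {Y : Scheme.{u}}

/-- Higher direct images of a sum of negative twists of modules from the base vanish off degree `n`. -/
theorem isZero_RpushAb_coprod [IsLocallyNoetherian Y] {ι : Type u} (G : ι → Y.Modules)
    (hG : ∀ j, Coh.IsQCoh (G j)) (d : ι → ℤ) (hd : ∀ j, d j < 0) {q : ℕ} (hq : q ≠ n) :
    IsZero ((Coh.RpushAb (KRR.pr n Y) q).obj (Coh.toAb (∐ fun j =>
      CohB1.tensorMod ((Scheme.Modules.pullback (KRR.pr n Y)).obj (G j)) (Twist.twistOver n Y (d j))))) := by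
  refine Cohom.isZero_RpushAb_of_basis (f := KRR.pr n Y) (Coh.toAb _) q Y.isBasis_affineOpens fun V hV => ?_
  haveI : IsNoetherianRing Γ(Y, V) := IsLocallyNoetherian.component_noetherian ⟨V, hV⟩
  obtain ⟨ω, hω1, hω⟩ := ProjPic26.exists_isPullback_point (n := n) Y (IsAffineOpen.fromSpec hV)
  haveI : IsOpenImmersion ω := MorphismProperty.of_isPullback (P := @IsOpenImmersion) hω.flip inferInstance
  have hr : ω ''ᵁ ⊤ = KRR.pr n Y ⁻¹ᵁ V := by
    have h2 := IsOpenImmersion.image_preimage_eq_preimage_image_of_isPullback hω.flip ⊤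
    rw [Scheme.Hom.preimage_top, Scheme.Hom.image_top_eq_opensRange (IsAffineOpen.fromSpec hV),
      IsAffineOpen.opensRange_fromSpec hV] at h2
    exact h2
  let P : ι → (KRR.PY n Y).Modules := fun j =>
    CohB1.tensorMod ((Scheme.Modules.pullback (KRR.pr n Y)).obj (G j)) (Twist.twistOver n Y (d j))
  let G' : ι → (Spec (CommRingCat.of Γ(Y, V))).Modules := fun j =>
    (Scheme.Modules.pullback (IsAffineOpen.fromSpec hV)).obj (G j)
  have e₂ : ∀ j, Nonempty ((Scheme.Modules.pullback ω).obj (P j) ≅ twPull n Γ(Y, V) (d j) (G' j)) := fun j => by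
    obtain ⟨φ⟩ := ProjCohom.nonempty_pullback_twistOver n Y (d j) hω1
    let e₁ : (Scheme.Modules.pullback ω).obj ((Scheme.Modules.pullback (KRR.pr n Y)).obj (G j)) ≅
        (Scheme.Modules.pullback (CohB1.ProjSpace.toSpec n Γ(Y, V))).obj (G' j) :=
      (Scheme.Modules.pullbackComp ω (KRR.pr n Y)).app (G j) ≪≫ (Scheme.Modules.pullbackCongr hω.w).app (G j) ≪≫
        ((Scheme.Modules.pullbackComp (CohB1.ProjSpace.toSpec n Γ(Y, V)) (IsAffineOpen.fromSpec hV)).app (G j)).symm
    exact ⟨OX.pullTensorIso ω _ _ ≪≫ Ample.LineData.tensorModMapIso e₁ φ ≪≫ GrTilde.tensorModComm _ _⟩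
  haveI := Chow.isProper_toSpec n Γ(Y, V)
  haveI : CompactSpace (CohB1.ProjSpace n Γ(Y, V)) :=
    QuasiCompact.compactSpace_of_compactSpace (CohB1.ProjSpace.toSpec n Γ(Y, V))
  haveI : (CohB1.ProjSpace n Γ(Y, V)).IsSeparated :=
    ⟨by rw [← terminal.comp_from (CohB1.ProjSpace.toSpec n Γ(Y, V))]; infer_instance⟩
  have h1 : Subsingleton (Coh.HH (CohB1.ProjSpace n Γ(Y, V)) ((∐ P).restrict ω) q) := by
    refine CMReg.subsingleton_of_iso
      (Sigma.mapIso (fun j => (e₂ j).some.symm) ≪≫ (PreservesCoproduct.iso _ P).symm ≪≫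
        ((Scheme.Modules.restrictFunctorIsoPullback ω).app (∐ P)).symm)
      (RatSing29.subsingleton_HH_coprod _ q fun j => ?_)
    haveI : (G j).IsQuasicoherent := hG j
    haveI : (G' j).IsQuasicoherent := FittSheaf.isQuasicoherent_pullback _ _
    exact subsingleton_HH_twPull n Γ(Y, V) (hd j) hq (G' j)
  obtain ⟨e⟩ := Cohom.nonempty_ext_image_equiv ω (∐ P) ⊤ q
  rw [hr] at e
  exact (e.trans (Cohom.HEquivTop _ q).symm).toEquiv.subsingleton

end GrothLib.PullTwist20
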